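import Groth.Prelude.Def_AlgSpRep
import Mathlib.AlgebraicGeometry.Sites.Etale

/-!
# The big étale site over a base: covering families
-/

set_option autoImplicit false

universe u

open CategoryTheory CategoryTheory.Limits AlgebraicGeometry Opposite

namespace Groth.Agent.H17.EtLim

/-- The étale topology on `S`-schemes. -/
abbrev Je (S : Scheme.{u}) : GrothendieckTopology (Over S) := QuotSh.J Scheme.etalePrecoverage S

variable {S : Scheme.{u}}

theorem ofArrows_mem_Je {T : Over S} {κ : Type u} {C : κ → Over S} (c : ∀ i, C i ⟶ T)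
    (het : ∀ i, Etale (c i).left)
    (hs : ∀ t : T.left, ∃ i, t ∈ Set.range (c i).left) : Sieve.ofArrows C c ∈ Je S T := by
  rw [GrothendieckTopology.mem_over_iff, Sieve.overEquiv_ofArrows]
  refine Precoverage.generate_mem_toGrothendieck ?_
  rw [Scheme.etalePrecoverage, Scheme.ofArrows_mem_precoverage_iff]
  exact ⟨fun t => by obtain ⟨i, hi⟩ := hs t; exact ⟨i, hi⟩, het⟩

/-- Coverings are refined by families of étale morphisms. -/
theorem exists_cover_of_mem_Je {A : Over S} {R : Sieve A} (hR : R ∈ Je S A) :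
    ∃ (κ : Type u) (C : κ → Over S) (c : ∀ i, C i ⟶ A), (∀ i, Etale (c i).left) ∧
      (∀ a : A.left, ∃ i, a ∈ Set.range (c i).left) ∧ ∀ i, R (c i) := by
  rw [GrothendieckTopology.mem_over_iff] at hR
  obtain ⟨𝒰, hle⟩ := (Scheme.mem_grothendieckTopology_iff (P := @Etale)).1 hR
  exact ⟨𝒰.I₀, fun i => Over.mk (𝒰.f i ≫ A.hom), fun i => Over.homMk (𝒰.f i) rfl,
    fun i => 𝒰.map_prop i, fun a => ⟨𝒰.idx a, 𝒰.covers a⟩, fun i => (Sieve.overEquiv_iff _ _).1 (hle _ _ ⟨i⟩)⟩

end Groth.Agent.H17.EtLim
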