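import Groth.Agent.H17.EtLim.Basic
import Groth.Agent.H06EGA8.DescendSmooth
import Groth.Agent.H7Lim.FPDescent.Exists
import Groth.Agent.H7Lim.DescendAffine
import Mathlib.CategoryTheory.Limits.Constructions.Over.Connected

/-!
Étale coverings of affine limits descend to a finite stage.
-/

universe u

open CategoryTheory CategoryTheory.Limits AlgebraicGeometry Opposite
open AlgSp

set_option backward.isDefEq.respectTransparency false

attribute [local instance] IsCofiltered.isConnected CategoryTheory.isConnected_of_hasTerminal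

namespace Groth.Agent.H17.EtLim

variable {S : Scheme.{u}}

section Left

variable {A B C : Over S} (f : A ⟶ C) (g : B ⟶ C)

theorem isPullback_left :
    IsPullback (pullback.fst f g).left (pullback.snd f g).left f.left g.left :=
  (IsPullback.of_hasPullback f g).map (Over.forget S)

theorem isAffine_pullback_left [IsAffine A.left] [IsAffine B.left] [IsAffine C.left] :
    IsAffine (pullback f g).left :=
  IsAffine.of_isIso (isPullback_left f g).isoPullback.hom

end Left

/-- An affine, étale scheme over an object. -/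
structure AffPiece (B : Over S) where
  /-- The scheme. -/
  W : Over S
  /-- The map to the base. -/
  w : W ⟶ B
  [aff : IsAffine W.left]
  [etale : Etale w.left]

attribute [instance] AffPiece.aff AffPiece.etale

namespace AffPiece

variable {B B' : Over S} {κ : Type u}

/-- The pieces cover the base. -/
def Covers (Q : κ → AffPiece B) : Prop := ∀ b : B.left, ∃ k, b ∈ Set.range (Q k).w.left

/-- The base change of a piece. -/
noncomputable abbrev bc (Q : AffPiece B) (m : B' ⟶ B) [IsAffine B.left] [IsAffine B'.left] : AffPiece B' where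
  W := pullback Q.w m
  w := pullback.snd Q.w m
  aff := isAffine_pullback_left Q.w m
  etale := MorphismProperty.of_isPullback (isPullback_left Q.w m) Q.etale

theorem Covers.bc {Q : κ → AffPiece B} (hQ : Covers Q) (m : B' ⟶ B) [IsAffine B.left] [IsAffine B'.left] :
    Covers fun k => (Q k).bc m := fun b => by
  obtain ⟨k, x, hx⟩ := hQ (m.left b)
  obtain ⟨z, hz₁, hz₂⟩ := Scheme.Pullback.exists_preimage_pullback (f := (Q k).w.left) (g := m.left) x b hx
  refine ⟨k, (isPullback_left (Q k).w m).isoPullback.inv z, ?_⟩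
  change (pullback.snd (Q k).w m).left _ = b
  rw [← Scheme.Hom.comp_apply, IsPullback.isoPullback_inv_snd]
  exact hz₂

theorem Covers.mem_J {Q : κ → AffPiece B} (hQ : Covers Q) :
    Sieve.ofArrows (fun k => (Q k).W) (fun k => (Q k).w) ∈ Je S B :=
  ofArrows_mem_Je _ (fun k => (Q k).etale) hQ

end AffPiece

/-- A covering sieve of an affine scheme contains a finite covering by affine pieces. -/
theorem exists_affine_cover {B : Over S} [IsAffine B.left] {R : Sieve B} (hR : R ∈ Je S B) :
    ∃ (κ : Type u) (_ : Finite κ) (Q : κ → AffPiece B), AffPiece.Covers Q ∧ ∀ k, R (Q k).w := by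
  obtain ⟨ι, C, c, hfl, hs, hc⟩ := exists_cover_of_mem_Je hR
  have h : ∀ b : B.left, ∃ Q : AffPiece B, b ∈ Set.range Q.w.left ∧ R Q.w := fun b => by
    obtain ⟨j, x, hx⟩ := hs b
    have := hfl j
    obtain ⟨W, hW, hxW, -⟩ := TopologicalSpace.Opens.isBasis_iff_nbhd.mp
      (C j).left.isBasis_affineOpens (show x ∈ (⊤ : (C j).left.Opens) from trivial)
    replace hW : IsAffineOpen W := hW
    let W' : Over S := Over.mk (Scheme.Opens.ι W ≫ (C j).hom)
    let ι' : W' ⟶ C j := Over.homMk (Scheme.Opens.ι W)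
    exact ⟨{ W := W'
             w := ι' ≫ c j
             aff := hW
             etale := inferInstanceAs (Etale (Scheme.Opens.ι W ≫ (c j).left)) },
      ⟨⟨x, hxW⟩, hx⟩, R.downward_closed (hc j) ι'⟩
  choose Q hQ hQR using h
  obtain ⟨s, hs'⟩ := isCompact_univ.elim_finite_subcover (fun b => Set.range (Q b).w.left)
    (fun b => (Scheme.Hom.isOpenMap (Q b).w.left).isOpen_range) (fun b _ => Set.mem_iUnion.2 ⟨b, hQ b⟩)
  refine ⟨↥s, inferInstance, fun k => Q k, fun b => ?_, fun k => hQR k⟩
  obtain ⟨k, hk, hb⟩ := Set.mem_iUnion₂.1 (hs' (Set.mem_univ b))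
  exact ⟨⟨k, hk⟩, hb⟩

variable {I : Type u} [SmallCategory I] [IsCofiltered I] {D : I ⥤ Over S} {c : Cone D}
  (hc : IsLimit ((Over.forget S).mapCone c)) (hD : ∀ i, IsAffine (D.obj i).left) (hT : IsAffine c.pt.left)

include hc hD hT

/-- An affine piece over the limit comes from a stage. -/
theorem exists_piece_stage (Q : AffPiece c.pt) :
    ∃ (j : I) (P : AffPiece (D.obj j)) (g : Q.W ⟶ P.W), IsPullback g Q.w P.w (c.π.app j) := by
  let E : I ⥤ Scheme.{u} := D ⋙ Over.forget S
  let d : Cone E := (Over.forget S).mapCone c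
  have : ∀ i, IsAffine (E.obj i) := hD
  have : ∀ (i j : I) (f : i ⟶ j), IsAffineHom (E.map f) := fun i j f => isAffineHom_of_isAffine _
  have : ∀ i, CompactSpace (E.obj i) := fun i => inferInstance
  have : ∀ i, QuasiSeparatedSpace (E.obj i) := fun i => inferInstance
  have : IsAffine d.pt := hT
  have : Etale (show Q.W.left ⟶ d.pt from Q.w.left) := Q.etale
  have : IsAffineHom (show Q.W.left ⟶ d.pt from Q.w.left) := isAffineHom_of_isAffine _
  obtain ⟨i, ⟨M⟩⟩ := H7Lim.FPDescent.exists_model (c := d) hc (show Q.W.left ⟶ d.pt from Q.w.left)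
  have : CompactSpace M.P := QuasiCompact.compactSpace_of_compactSpace M.p
  have : QuasiSeparatedSpace M.P := quasiSeparatedSpace_of_quasiSeparated M.p
  obtain ⟨j, φ, het⟩ := H06EGA8.descendsAffine_etale.descends I E d hc i M.p M.lfp
    ((H7Lim.prop_iff_of_isPullback (P := @Etale) M.hpb).1 Q.etale)
  let M₁ := M.shift φ
  have : CompactSpace M₁.P := QuasiCompact.compactSpace_of_compactSpace M₁.p
  have : QuasiSeparatedSpace M₁.P := quasiSeparatedSpace_of_quasiSeparated M₁.p
  have het₁ : Etale M₁.p := het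
  obtain ⟨k, ψ, haff⟩ := H7Lim.descendsAffine_isAffineHom.descends I E d hc j M₁.p trivial
    ((H7Lim.prop_iff_of_isPullback (P := @IsAffineHom) M₁.hpb).1 inferInstance)
  let M₂ := M₁.shift ψ
  have haff₂ : IsAffineHom M₂.p := haff
  have het₂ : Etale M₂.p := MorphismProperty.pullback_snd M₁.p (E.map ψ) het₁
  let W₀ : Over S := Over.mk (M₂.p ≫ (D.obj k).hom)
  let P : AffPiece (D.obj k) :=
    { W := W₀
      w := Over.homMk M₂.p
      aff := isAffine_of_isAffineHom M₂.p
      etale := het₂ }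
  have wS : M₂.g ≫ M₂.p ≫ (D.obj k).hom = Q.W.hom := by
    rw [← Category.assoc, M₂.hpb.w, Category.assoc, ← Over.w Q.w]
    exact congrArg _ (Over.w (c.π.app k))
  exact ⟨k, P, Over.homMk M₂.g wS, IsPullback.of_map_of_faithful (Over.forget S) M₂.hpb⟩

/-- A covering sieve of the limit contains the base change of a finite covering of a stage by affine pieces. -/
theorem exists_cover_stage {R : Sieve c.pt} (hR : R ∈ Je S c.pt) :
    ∃ (j : I) (κ : Type u) (_ : Finite κ) (Q : κ → AffPiece (D.obj j)), AffPiece.Covers Q ∧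
      ∀ k ⦃Z : Over S⦄ (a : Z ⟶ c.pt) (b : Z ⟶ (Q k).W), b ≫ (Q k).w = a ≫ c.π.app j → R a := by
  obtain ⟨κ, _, Q, hQ, hQR⟩ := exists_affine_cover hR
  choose j P g hg using fun k => exists_piece_stage hc hD hT (Q k)
  classical
  cases nonempty_fintype κ
  obtain ⟨m, hm⟩ := IsCofiltered.inf_objs_exists (Finset.univ.image j)
  let e : ∀ k, m ⟶ j k := fun k => (hm (Finset.mem_image_of_mem j (Finset.mem_univ k))).some
  haveI := fun i => hD i
  let Q₁ : κ → AffPiece (D.obj m) := fun k => (P k).bc (D.map (e k))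
  have hQ₁ : ∀ k ⦃Z : Over S⦄ (a : Z ⟶ c.pt) (b : Z ⟶ (Q₁ k).W), b ≫ (Q₁ k).w = a ≫ c.π.app m → R a := by
    intro k Z a b hab
    have hw : (b ≫ pullback.fst (P k).w (D.map (e k))) ≫ (P k).w = a ≫ c.π.app (j k) := by
      rw [Category.assoc, pullback.condition, ← Category.assoc]
      change (b ≫ (Q₁ k).w) ≫ _ = _
      rw [hab, Category.assoc, c.w]
    obtain ⟨l, -, hl⟩ := (hg k).exists_lift (b ≫ pullback.fst (P k).w (D.map (e k))) a hw
    rw [← hl]
    exact R.downward_closed (hQR k) l
  have hopen : ∀ k, IsOpenMap (Q₁ k).w.left := fun k =>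
    have : Etale (Q₁ k).w.left := (Q₁ k).etale
    Scheme.Hom.isOpenMap (Q₁ k).w.left
  let O : (D.obj m).left.Opens :=
    ⨆ k, ⟨Set.range (Q₁ k).w.left, (hopen k).isOpen_range⟩
  have hO : (c.π.app m).left ⁻¹ᵁ ⊤ ≤ (c.π.app m).left ⁻¹ᵁ O := fun t _ => by
    obtain ⟨k, x, hx⟩ := hQ t
    refine TopologicalSpace.Opens.mem_iSup.2 ⟨k, ?_⟩
    have hw : (g k) ≫ (P k).w = ((Q k).w ≫ c.π.app m) ≫ D.map (e k) := by
      rw [(hg k).w, Category.assoc, c.w]
    refine ⟨(pullback.lift (g k) ((Q k).w ≫ c.π.app m) hw).left x, ?_⟩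
    change (pullback.lift (g k) ((Q k).w ≫ c.π.app m) hw ≫ pullback.snd _ _).left x = _
    rw [pullback.lift_snd, Over.comp_left, Scheme.Hom.comp_apply, hx]
    rfl
  have : ∀ {i j : I} (f : i ⟶ j), IsAffineHom ((D ⋙ Over.forget S).map f) := fun {i j} f =>
    have : IsAffine ((D ⋙ Over.forget S).obj i) := hD i
    have : IsAffine ((D ⋙ Over.forget S).obj j) := hD j
    isAffineHom_of_isAffine _
  have : IsAffine ((D ⋙ Over.forget S).obj m) := hD m
  obtain ⟨n, f, hf⟩ := exists_map_preimage_le_map_preimage (D ⋙ Over.forget S) ((Over.forget S).mapCone c) hc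
    (i := m) (U := ⊤) (V := O) (isAffineOpen_top _).isCompact hO
  refine ⟨n, κ, inferInstance, fun k => (Q₁ k).bc (D.map f), fun b => ?_, fun k Z a b hab => ?_⟩
  · obtain ⟨k, x, hx⟩ := TopologicalSpace.Opens.mem_iSup.1 (hf (trivial : b ∈ (D.map f).left ⁻¹ᵁ (⊤ : (D.obj m).left.Opens)))
    obtain ⟨z, hz₁, hz₂⟩ := Scheme.Pullback.exists_preimage_pullback (f := (Q₁ k).w.left) (g := (D.map f).left) x b hx
    refine ⟨k, (isPullback_left (Q₁ k).w (D.map f)).isoPullback.inv z, ?_⟩
    change (pullback.snd (Q₁ k).w (D.map f)).left _ = b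
    rw [← Scheme.Hom.comp_apply, IsPullback.isoPullback_inv_snd]
    exact hz₂
  · refine hQ₁ k a (b ≫ pullback.fst (Q₁ k).w (D.map f)) ?_
    rw [Category.assoc, pullback.condition, ← Category.assoc]
    change (b ≫ ((Q₁ k).bc (D.map f)).w) ≫ _ = _
    rw [hab, Category.assoc, c.w]

end Groth.Agent.H17.EtLim
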